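import Cfsg.Agent.J3C.Rel
import Cfsg.Agent.J3C.L0

set_option autoImplicit false
set_option Elab.async false
set_option maxRecDepth 100000
set_option linter.all false

namespace Cfsg.Agent.J3C
open Cfsg.Agent.CGT

noncomputable def l1_n0 : Net := Net.cons 64 0x40800000000000 <|
  Net.cons 32 0x40800000000000ca6a1490 <|
  Net.cons 16 0x400000c9b600003d74 <|
  Net.cons 8 0x800028001000ea009e <|
  Net.cons 4 0x80600020c000e0000 <|
  Net.cons 2 0x2200002002020 <|
  Net.cons 1 0x451051455454451114 <|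
  Net.cons 2 0x30132021230302322 <|
  Net.cons 4 0x80402030f000e0900 <|
  Net.cons 8 0x80000e00ef00e000b4 <|
  Net.cons 16 0x400000fbf600003162 <|
  Net.cons 32 0x40800000000000ca6a1490 <|
  Net.cons 64 0x40800000000000 <|
  Net.nil
noncomputable def l1_n1 : Net := Net.cons 64 0x4244000000000000 <|
  Net.cons 32 0x4244000000000000175b2a20 <|
  Net.cons 16 0x424000002be200005288 <|
  Net.cons 8 0x480034005000840048 <|
  Net.cons 4 0x80400040a08080c0408 <|
  Net.cons 2 0x20020020220000 <|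
  Net.cons 1 0x40000045110545414040 <|
  Net.cons 2 0x10020021320022002 <|
  Net.cons 4 0x80403040e08080e0106 <|
  Net.cons 8 0x4a00a40058009c00b4 <|
  Net.cons 16 0x424400002be200004eb2 <|
  Net.cons 32 0x4244000000000000074b2b20 <|
  Net.cons 64 0x4244000000000000 <|
  Net.nil
noncomputable def l1_n2 : Net := Net.cons 64 0x2a8000000000000 <|
  Net.cons 32 0x2a80000000000009cd61580 <|
  Net.cons 16 0x2280000df380000e9ec <|
  Net.cons 8 0x320090000000a4 <|
  Net.cons 4 0x20a0c06020c08000a <|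
  Net.cons 2 0x200200000200200 <|
  Net.cons 1 0x55445101040140110 <|
  Net.cons 2 0x30320010310302 <|
  Net.cons 4 0x80002020406020d0d030a <|
  Net.cons 8 0x200ce00c5002600e0 <|
  Net.cons 16 0x22800004b2a000074e8 <|
  Net.cons 32 0x2a80000000000003cc6910c <|
  Net.cons 64 0x2a8000000000000 <|
  Net.nil
noncomputable def l1_n3 : Net := Net.cons 64 0x248000000000000 <|
  Net.cons 32 0x24800000000000080d68000 <|
  Net.cons 16 0x208000022cc00004480 <|
  Net.cons 8 0xa00700028005c <|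
  Net.cons 4 0x8000002000808040c000c <|
  Net.cons 2 0x2000020020020000 <|
  Net.cons 1 0x4000041105510540411004 <|
  Net.cons 2 0x200021320020210 <|
  Net.cons 4 0x8000009000808040c040e <|
  Net.cons 8 0x2000a00f1003a005c <|
  Net.cons 16 0x208000026cc00004480 <|
  Net.cons 32 0x24800000000000080d68000 <|
  Net.cons 64 0x248000000000000 <|
  Net.nil
noncomputable def l1_n4 : Net := Net.cons 64 0x8800000000000 <|
  Net.cons 32 0x880000000000069921440 <|
  Net.cons 16 0x141200001280 <|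
  Net.cons 8 0x800040001000e800c2 <|
  Net.cons 4 0x80808040404080000 <|
  Net.cons 2 0x20202020200 <|
  Net.cons 1 0x5404040404411401 <|
  Net.cons 2 0x23010021202020331 <|
  Net.cons 4 0x8080805040c0a0000 <|
  Net.cons 8 0x8000c7001000e800cd <|
  Net.cons 16 0x80000143200001280 <|
  Net.cons 32 0x880000000000069921440 <|
  Net.cons 64 0x8800000000000 <|
  Net.nil
noncomputable def l1_ns : List Net := [l1_n0, l1_n1, l1_n2, l1_n3, l1_n4, Net.nil]
noncomputable def l1_R : List (List ℕ) := [[0, 0], [2, 2], [4, 4], [6, 6], [8, 8], [0, 2, 0, 2, 0, 2], [0, 4, 0, 4], [2, 4, 2, 4, 2, 4, 2, 4, 2, 4], [0, 2, 0, 4, 2, 0, 4, 2, 0, 4, 2, 4, 0, 2, 4], [0, 6, 0, 6], [2, 6, 2, 6], [4, 6, 4, 6], [0, 4, 6, 0, 4, 6], [0, 8, 4, 6, 8, 0, 8, 6, 8], [0, 2, 0, 6, 8, 0, 2, 0, 6, 8], [0, 6, 8, 4, 8, 6, 4, 8, 4, 8], [6, 8, 6, 8, 6, 8, 6, 8, 6, 8]]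
noncomputable def l1_S0 : List (List ℕ) := [[0], [2], [4], [6]]
noncomputable def l1_T : Tab := (.node 64 (.node 32 (.leaf 0x1a00001e0100001e00000e0300001d00000d0500001c00000c0500000d00001a0300001a00000c0400001900000b0500001800000b0300001500000b0400000d0000150200001500000b010000130000130400001300000a0500000c0000110100001100000a0300000e00000a0400000d00000e0100000e00000a0200000d0000090400000c0000090300000b0000090200000a0000090100000900000005000000000000040000000000000300000000000002000000000000010000000000000c0000000000000a000000000000080000000000000600000000000000) (.leaf 0x3f0000290300003e0000290100003d0000260500003c000025050000250000190100001900002e0000002b00002500000013000023000000220000220400001c00001c04000022000022030000210000310300001c00001c0100001d0000310100003100001a050000300000190300002500002e0100002e000019020000190000190400002300002b0200002b0000190100002a00001805000029000015050000180000260400001800002601000026000015030000250000130200002300002304000023000013010000220000110500002100000e0500001100001e04))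 (.leaf 0xe00003c0000420300003c0000430100004800003e0300004800003e04000048000030050000260000260500002600003d0000003c00002a0400003e0000430500004300002a0300004200002a0100003f00003f0500002900003f04))
noncomputable def l1_S : STC := ⟨l1_T, (.node 9 (.node 4 (.node 2 (.node 1 (.leaf 0x0) (.leaf 0x7010701002)) (.node 1 (.leaf 0x9020902002) (.leaf 0xb030b03002))) (.node 2 (.node 1 (.leaf 0xd040d04002) (.leaf 0x50401020105040102010504010201050401020100a)) (.node 1 (.leaf 0x401040104010401004) (.node 1 (.leaf 0x301030103010301004) (.leaf 0x50405010504030501050405010504030501009))))) (.node 4 (.node 2 (.node 1 (.leaf 0x20102010201020102010201006) (.leaf 0x402040204020402004)) (.node 1 (.leaf 0x403040304030403004) (.leaf 0x50305030405030504010503050304050305040100a))) (.node 2 (.node 1 (.leaf 0x2020202002) (.leaf 0x1010101002)) (.node 1 (.leaf 0x50405040504050405040504050405040504050400a) (.node 1 (.leaf 0x5050505002) (.leaf 0x5010502050301050302050e05010502050301050302050e00c)))))),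 0xe0f0c0d0a0b08090607050403020100, [[], [0], [2], [4], [6], [8], [0], [0], [2], [2], [4], [4], [6], [6], [8, 0, 8, 2, 8, 4, 0, 8, 4, 2, 8], [8, 2, 4, 8, 0, 4, 8, 2, 8, 0, 8]], [6, 8, 10, 12]⟩
noncomputable def l1_W : List (List ℕ) := [[8, 0, 8, 2, 8, 4, 0, 8, 4, 2, 8]]
theorem l1_h : l1_S.hypOK [0, 2, 4, 6, 8] l1_R l1_S0 = true := by decide +kernel
theorem l1_c0 : l1_S.checks [0x2000, 0x1000, 0x1000, 0x1000, 0x1000, 0x300003001, 0x500004001, 0x700005001, 0x900006001, 0x0, 0x0, 0x0, 0x0, 0x0, 0x0, 0x1c00001400001200001100000b00000d00000b00001300001b00807009, 0x1400001b00001e00c08003, 0x0, 0x2200001400001900809003, 0x0, 0x2600001400001200001100000f00001300001500002701c0a008, 0x0, 0x2a00001600001500001d00001f0040b005, 0x1600001b00002c00c0c003, 0x0, 0x0, 0x0, 0x3400001800001b0080d003, 0x0, 0x0, 0x0, 0x3c00001f00003600809003, 0x3c0000200000230040d003, 0x0, 0x0, 0x0, 0x4600002900004700408003, 0x0, 0x0, 0x4c00002a00003100809003, 0x4c00002e0000310040d003, 0x0,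 0x0, 0x0, 0x5600003200002f00002a00001600001500002700002900004700407009, 0x5700005900004600002600002100001f00002c00002a00003302007009, 0x0, 0x5c00005700005900004600004b0080b005, 0x0, 0x0, 0x6200003400001800001200000b00001300001b00003b0140a008, 0x3800003500003700003b0000640000620000340000390140a008, 0x6200003700001a00001200000f00001300001b00001e0000430200e009, 0x4400004000003f00006300006900004200003d00004100004500c0e009, 0x6700003800001800001200000f0000110000130000190000390040e009, 0x6b00004400002500003900006d00003800002400004500c0a008, 0x4900004600002600002300004500006b00006f0000440000220000270080e00a, 0x4a0000700000580000f003, 0x5f00007300005600010003, 0x7400005f00010002, 0x0, 0x0, 0x0, 0x0, 0x7e00005200002a00003300005b00003200002b00005300c0a008, 0x8100005200002e00003300005b00003200002f00005300008002411009, 0x0, 0x0, 0x8600005400003000002f00005300007f00008300008100007d0240e009, 0x8700008900007c00005200002e00003300007700007900c0a008, 0x7a00005100003000003300007700007900008a00005400004e0140a009,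 0x8c00007a00012002, 0x0, 0x7c00005200004d00008e00004c00002e0000330000610000910040e009, 0x9300009000006000003200002f00002a0000330000610000910180e009, 0x8900009500009000006000005a00003200003100005500008b0000e009, 0x8400008700009700c09003, 0x1300001500002700004b0000790000980000840000540000300000160000120001300b] 0 78 = true := by decide +kernel
theorem l1_g : l1_S.goals l1_W 78 = true := by decide +kernel
theorem l1_mem {G : Type*} [Group G] {γ : ℕ → G} (hR : Holds (ext γ) l1_R) {H : Subgroup G}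
    (hS : ∀ u ∈ l1_S0, ev (ext γ) u ∈ H) : ∀ u ∈ l1_W, ev (ext γ) u ∈ H :=
  have hy := STC.hypOK_sound hR hS l1_h
  STC.Upto.goals ((STC.upto_zero).step hy l1_c0) l1_g
noncomputable def l1_E : Enum := ⟨l1_ns, l1_R, l1_S0 ++ l1_W, [], 0⟩
theorem l1_v : validAll (2 ^ 7) l1_ns = true := by decide +kernel
theorem l1_p0 : holdsB 7 l1_ns l1_R = true := by decide +kernel
theorem l1_p : Holds (lp l1_ns) l1_R := holdsB_sound l1_v l1_p0
theorem l1_f : allL l1_E.Sub (fixN l1_E.ns l1_E.b0) = true := by decide +kernel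
theorem l1_r0 : l1_E.run [34, 16, 2, 0, 10, 4, 18, 8, 26, 12, 34, 16, 2, 0, 10, 4, 18, 8, 26, 12, 34, 16, 2, 0, 24, 40, 4136, 44, 3, 7, 11, 15, 52, 0, 20532, 28724, 8244, 8248, 0, 4156, 24636, 32828, 8, 24, 4132, 4136, 4140, 4132, 20, 48, 28724, 4136, 4140, 4132, 8244, 60, 12348, 24, 4116, 4152, 4, 12344, 16440, 16, 4132, 4140, 4116, 12340, 12, 40, 8248, 0, 4160, 4120, 4132, 4136, 4140, 40, 20, 36, 4148, 16, 28, 56, 0, 8248, 0, 12344, 12, 16444, 4160, 24, 4132, 40, 20, 48, 4148, 16440, 12320, 16403, 16, 28724, 40, 4148, 56, 0, 4152, 4, 16444, 36924, 16, 4120, 4132, 20, 48, 4124, 16440, 24636, 8, 4148, 16, 28724, 8252, 12348, 8, 24, 4148, 16, 16436, 4152, 32, 0, 4116, 56, 0, 12344, 16440, 8252, 16, 12348, 8, 20540, 4120, 4116, 52, 4148, 4120, 4132, 24628, 4152, 4, 4152, 4116] (1 <<< 0) (List.replicate 10 0) (Enum.done 68 [0, 2, 4, 6, 8]) = true := by decide +kernel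
theorem l1_fin {G : Type*} [Group G] {γ : ℕ → G} (hR : Holds (ext γ) l1_R) {H : Subgroup G}
    (hS : ∀ u ∈ l1_S0, ev (ext γ) u ∈ H) : l1_E.Fin γ H 68 [0, 2, 4, 6, 8] :=
  have hy : l1_E.Hyp γ H := Enum.hyp_of l1_v hR l1_p (forall_mem_append' hS (l1_mem hR hS)) l1_f
  (Enum.fin_of_done hy (Enum.inv_init 10) l1_r0)
noncomputable def l2_n3 : Net := Net.cons 1 0x1 <|
  Net.nil
noncomputable def l2_ns : List Net := [Net.nil, Net.nil, Net.nil, l2_n3, Net.nil, Net.nil]
noncomputable def l2_R : List (List ℕ) := [[0, 0], [2, 2], [4, 4], [6, 6], [0, 2, 0, 2, 0, 2], [0, 4, 0, 4], [2, 4, 2, 4, 2, 4, 2, 4, 2, 4], [0, 2, 0, 4, 2, 0, 4, 2, 0, 4, 2, 4, 0, 2, 4], [0, 6, 0, 6], [2, 6, 2, 6], [4, 6, 4, 6], [0, 4, 6, 0, 4, 6]]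
noncomputable def l2_S0 : List (List ℕ) := [[0], [2], [4]]
noncomputable def l2_E : Enum := ⟨l2_ns, l2_R, l2_S0, [], 0⟩
theorem l2_v : validAll (2 ^ 3) l2_ns = true := by decide +kernel
theorem l2_p0 : holdsB 3 l2_ns l2_R = true := by decide +kernel
theorem l2_p : Holds (lp l2_ns) l2_R := holdsB_sound l2_v l2_p0
theorem l2_f : allL l2_E.Sub (fixN l2_E.ns l2_E.b0) = true := by decide +kernel
theorem l2_r0 : l2_E.run [26, 12, 3, 7, 11, 32, 36, 40] (1 <<< 0) (List.replicate 8 0) (Enum.done 2 [0, 2, 4, 6]) = true := by decide +kernel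
theorem l2_fin {G : Type*} [Group G] {γ : ℕ → G} (hR : Holds (ext γ) l2_R) {H : Subgroup G}
    (hS : ∀ u ∈ l2_S0, ev (ext γ) u ∈ H) : l2_E.Fin γ H 2 [0, 2, 4, 6] :=
  have hy : l2_E.Hyp γ H := Enum.hyp_of l2_v hR l2_p hS l2_f
  (Enum.fin_of_done hy (Enum.inv_init 8) l2_r0)
noncomputable def l3_n0 : Net := Net.cons 8 0xc0 <|
  Net.cons 4 0xc00 <|
  Net.cons 1 0x14 <|
  Net.cons 2 0x300 <|
  Net.cons 4 0xc00 <|
  Net.cons 8 0xc0 <|
  Net.nil
noncomputable def l3_n1 : Net := Net.cons 2 0x2 <|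
  Net.cons 1 0x104 <|
  Net.cons 2 0x32 <|
  Net.nil
noncomputable def l3_n2 : Net := Net.cons 8 0x80 <|
  Net.cons 4 0x80c <|
  Net.cons 1 0x1 <|
  Net.cons 2 0x230 <|
  Net.cons 4 0x80c <|
  Net.cons 8 0x80 <|
  Net.nil
noncomputable def l3_ns : List Net := [l3_n0, l3_n1, l3_n2, Net.nil, Net.nil, Net.nil]
noncomputable def l3_R : List (List ℕ) := [[0, 0], [2, 2], [4, 4], [0, 2, 0, 2, 0, 2], [0, 4, 0, 4], [2, 4, 2, 4, 2, 4, 2, 4, 2, 4], [0, 2, 0, 4, 2, 0, 4, 2, 0, 4, 2, 4, 0, 2, 4]]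
noncomputable def l3_S0 : List (List ℕ) := [[0], [2]]
noncomputable def l3_E : Enum := ⟨l3_ns, l3_R, l3_S0, [], 0⟩
theorem l3_v : validAll (2 ^ 4) l3_ns = true := by decide +kernel
theorem l3_p0 : holdsB 4 l3_ns l3_R = true := by decide +kernel
theorem l3_p : Holds (lp l3_ns) l3_R := holdsB_sound l3_v l3_p0
theorem l3_f : allL l3_E.Sub (fixN l3_E.ns l3_E.b0) = true := by decide +kernel
theorem l3_r0 : l3_E.run [18, 8, 10, 4, 18, 8, 2, 0, 10, 4, 18, 8, 2, 0, 4112, 3, 7, 16, 4108, 4116, 4112, 24, 0, 4108] (1 <<< 0) (List.replicate 6 0) (Enum.done 10 [0, 2, 4]) = true := by decide +kernel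
theorem l3_fin {G : Type*} [Group G] {γ : ℕ → G} (hR : Holds (ext γ) l3_R) {H : Subgroup G}
    (hS : ∀ u ∈ l3_S0, ev (ext γ) u ∈ H) : l3_E.Fin γ H 10 [0, 2, 4] :=
  have hy : l3_E.Hyp γ H := Enum.hyp_of l3_v hR l3_p hS l3_f
  (Enum.fin_of_done hy (Enum.inv_init 6) l3_r0)
noncomputable def l4_n0 : Net := Net.cons 2 0x2 <|
  Net.cons 1 0x4 <|
  Net.cons 2 0x2 <|
  Net.nil
noncomputable def l4_n1 : Net := Net.cons 1 0x1 <|
  Net.nil
noncomputable def l4_ns : List Net := [l4_n0, l4_n1, Net.nil, Net.nil, Net.nil, Net.nil]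
noncomputable def l4_R : List (List ℕ) := [[0, 0], [2, 2], [0, 2, 0, 2, 0, 2]]
noncomputable def l4_S0 : List (List ℕ) := [[0]]
noncomputable def l4_E : Enum := ⟨l4_ns, l4_R, l4_S0, [], 0⟩
theorem l4_v : validAll (2 ^ 3) l4_ns = true := by decide +kernel
theorem l4_p0 : holdsB 3 l4_ns l4_R = true := by decide +kernel
theorem l4_p : Holds (lp l4_ns) l4_R := holdsB_sound l4_v l4_p0
theorem l4_f : allL l4_E.Sub (fixN l4_E.ns l4_E.b0) = true := by decide +kernel
theorem l4_r0 : l4_E.run [10, 4, 2, 0, 3, 4104] (1 <<< 0) (List.replicate 4 0) (Enum.done 3 [0, 2]) = true := by decide +kernel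
theorem l4_fin {G : Type*} [Group G] {γ : ℕ → G} (hR : Holds (ext γ) l4_R) {H : Subgroup G}
    (hS : ∀ u ∈ l4_S0, ev (ext γ) u ∈ H) : l4_E.Fin γ H 3 [0, 2] :=
  have hy : l4_E.Hyp γ H := Enum.hyp_of l4_v hR l4_p hS l4_f
  (Enum.fin_of_done hy (Enum.inv_init 4) l4_r0)
noncomputable def l5_n0 : Net := Net.cons 1 0x1 <|
  Net.nil
noncomputable def l5_ns : List Net := [l5_n0, Net.nil, Net.nil, Net.nil, Net.nil, Net.nil]
noncomputable def l5_R : List (List ℕ) := [[0, 0]]
noncomputable def l5_S0 : List (List ℕ) := []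
noncomputable def l5_E : Enum := ⟨l5_ns, l5_R, l5_S0, [], 0⟩
theorem l5_v : validAll (2 ^ 3) l5_ns = true := by decide +kernel
theorem l5_p0 : holdsB 3 l5_ns l5_R = true := by decide +kernel
theorem l5_p : Holds (lp l5_ns) l5_R := holdsB_sound l5_v l5_p0
theorem l5_f : allL l5_E.Sub (fixN l5_E.ns l5_E.b0) = true := by decide +kernel
theorem l5_r0 : l5_E.run [2, 0] (1 <<< 0) (List.replicate 2 0) (Enum.done 2 [0]) = true := by decide +kernel
theorem l5_fin {G : Type*} [Group G] {γ : ℕ → G} (hR : Holds (ext γ) l5_R) {H : Subgroup G}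
    (hS : ∀ u ∈ l5_S0, ev (ext γ) u ∈ H) : l5_E.Fin γ H 2 [0] :=
  have hy : l5_E.Hyp γ H := Enum.hyp_of l5_v hR l5_p hS l5_f
  (Enum.fin_of_done hy (Enum.inv_init 2) l5_r0)
theorem bd5 {G : Type*} [Group G] {γ : ℕ → G} (hR : Holds (ext γ) RR) : Bd (gp γ [0]) 2 :=
  Bd.step (l5_fin (hR.subR (by decide +kernel)) (wordsIn_sound γ (L := []) (by decide +kernel))) (Bd.gp_nil γ) (by norm_num)
theorem bd4 {G : Type*} [Group G] {γ : ℕ → G} (hR : Holds (ext γ) RR) : Bd (gp γ [0, 2]) 6 :=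
  Bd.step (l4_fin (hR.subR (by decide +kernel)) (wordsIn_sound γ (L := [0]) (by decide +kernel))) (bd5 hR) (by norm_num)
theorem bd3 {G : Type*} [Group G] {γ : ℕ → G} (hR : Holds (ext γ) RR) : Bd (gp γ [0, 2, 4]) 60 :=
  Bd.step (l3_fin (hR.subR (by decide +kernel)) (wordsIn_sound γ (L := [0, 2]) (by decide +kernel))) (bd4 hR) (by norm_num)
theorem bd2 {G : Type*} [Group G] {γ : ℕ → G} (hR : Holds (ext γ) RR) : Bd (gp γ [0, 2, 4, 6]) 120 :=
  Bd.step (l2_fin (hR.subR (by decide +kernel)) (wordsIn_sound γ (L := [0, 2, 4]) (by decide +kernel))) (bd3 hR) (by norm_num)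
theorem bd1 {G : Type*} [Group G] {γ : ℕ → G} (hR : Holds (ext γ) RR) : Bd (gp γ [0, 2, 4, 6, 8]) 8160 :=
  Bd.step (l1_fin (hR.subR (by decide +kernel)) (wordsIn_sound γ (L := [0, 2, 4, 6]) (by decide +kernel))) (bd2 hR) (by norm_num)
theorem bd0 {G : Type*} [Group G] {γ : ℕ → G} (hR : Holds (ext γ) RR) : Bd (gp γ [0, 2, 4, 6, 8, 10]) 50232960 :=
  Bd.step (l0_fin (hR.subR (by decide +kernel)) (wordsIn_sound γ (L := [0, 2, 4, 6, 8]) (by decide +kernel))) (bd1 hR) (by norm_num)

end Cfsg.Agent.J3C
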