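import Cfsg.Agent.J3C.Gen
import Cfsg.Prelude.Def_Spor_J3

set_option autoImplicit false
set_option Elab.async false
set_option maxRecDepth 100000
set_option linter.all false

namespace Cfsg.Agent.J3C
open Cfsg.Agent.CGT

noncomputable def As0 : List (List ℕ) := [[1, 8, 32, 128, 768, 3072, 8192, 49152, 196608],
  [1, 12, 48, 192, 512, 2048, 12288, 32768, 131072],
  [4096, 16384, 65536, 1, 4, 16, 64, 512, 3072],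
  [64, 256, 1024, 4096, 49152, 131072, 1, 4, 16],
  [1, 65536, 256, 16384, 64, 16, 1024, 4, 4096],
  [1, 16384, 1024, 256, 16, 4096, 65536, 64, 4],
  [1, 4164, 4176, 4116, 66816, 17664, 84, 82944, 82176],
  [1, 4164, 4176, 4116, 66816, 17664, 84, 82944, 82176]]
noncomputable def W : List (List ℕ) := [[1, 6, 2, 1, 2, 6, 3, 6, 2, 6, 1, 3, 3, 6], [4, 2, 2, 6, 3, 3, 5, 3, 6, 2, 4, 4, 1, 2, 6, 2, 2, 6, 2, 0, 4, 1, 2, 6, 2, 2, 6, 2, 0, 4], [3, 0, 2, 4, 6, 1, 3, 5, 6, 0, 2, 6, 1, 3, 6, 4, 4], [5, 6, 4, 2, 6, 3, 3, 6, 2, 6, 3, 3, 4, 1, 2, 6, 2, 2, 6, 2, 0, 4], [1, 6, 4, 2, 5, 6, 3, 3, 3, 6, 2, 4, 6, 5, 5], [2, 5, 3, 3, 6, 1, 2, 6, 1, 3, 3, 5, 5, 1, 2, 6, 2, 2, 6, 2, 0, 4]]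
noncomputable def V : List (List ℕ) := [[], [4, 10, 0, 8, 2, 8, 0, 8, 2, 10, 2, 6, 10, 8, 6, 8, 10, 8, 2, 10, 0, 2, 8, 10, 6, 4, 6, 10, 8, 2, 10, 0, 2, 8, 10, 6, 0, 0], [2, 0, 8, 10, 2, 0, 6, 10, 8, 6, 4, 2, 6, 8, 6, 8, 10, 6, 8, 6, 10, 8, 2, 10, 0, 2, 8, 10, 6, 0, 0, 0, 0, 0], [4, 2, 8, 2, 10, 2, 10, 8, 2, 0, 6, 10, 8, 2, 10, 0, 2, 8, 10, 6, 4, 6, 10, 8, 2, 10, 0, 2, 8, 10, 6, 8, 6, 10, 8, 6, 8, 6, 4, 0, 0, 0, 0, 0], [0, 6, 8, 6, 0, 4, 8, 10, 2, 10, 8, 6, 4, 6, 8, 6, 8, 10, 6, 8, 6, 10, 8, 2, 10, 0, 2, 8, 10, 6, 8, 6, 10, 8, 6, 8, 6, 0, 0, 0], [4, 8, 4, 2, 4, 8, 2, 10, 2, 0, 10, 2, 10, 2, 4, 6, 10, 8, 2, 10, 0, 2, 8, 10, 8, 6, 8, 10, 6, 8], [6, 0, 8, 2, 10, 8, 0, 4, 2, 4, 2, 8, 6, 10, 8, 2, 10, 0, 2, 8, 10, 6, 0, 6, 10, 8, 2, 10, 0, 2, 8, 10, 6], [2, 8, 2, 4, 8, 4, 10, 2, 10, 6, 8, 6, 8, 10, 6, 8,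 0, 6, 10, 8, 2, 10, 0, 2, 8, 10, 6, 0, 0], [2, 10, 2, 8, 6, 10, 2, 10, 8, 6, 8, 0, 4, 2, 6, 10, 8, 2, 10, 0, 2, 8, 10, 6, 0, 6, 10, 8, 2, 10, 0, 2, 8, 10, 6, 4, 0, 0], [2, 0, 6, 10, 2, 4, 2, 10, 4, 8, 2, 6, 10, 8, 2, 10, 0, 2, 8, 10, 8, 6, 8, 10, 6, 8, 0], [4, 10, 8, 2, 8, 10, 2, 6, 4, 2, 6, 8, 6, 8, 10, 6, 8, 0, 6, 10, 8, 2, 10, 0, 2, 8, 10, 6, 0], [6, 10, 4, 2, 10, 8, 2, 0, 4, 8, 10, 4, 6, 8, 6, 8, 10, 6, 8, 6, 10, 8, 2, 10, 0, 2, 8, 10, 6, 4, 0, 0, 0], [4, 0, 8, 2, 10, 2, 0, 6, 10, 8, 2, 10, 0, 2, 8, 10, 6, 8, 6, 10, 8, 6, 8, 6, 0, 6, 10, 8, 2, 10, 0, 2, 8, 10, 6, 0], [6, 8, 10, 6, 8, 6, 2, 10, 2, 8, 4, 2, 8, 6, 10, 8, 6, 8, 6, 4, 6, 10, 8, 2, 10, 0, 2, 8, 10, 8, 6, 8, 10, 6, 8, 0, 0], [2, 6, 2, 8, 2, 8, 0, 6, 8, 4, 10, 2, 8, 6, 10, 8, 2, 10, 0, 2, 8, 10, 8, 6, 8, 10, 6, 8, 4, 6, 10, 8, 2, 10,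 0, 2, 8, 10, 6, 4, 0, 0], [10, 8, 2, 8, 10, 4, 0, 6, 10, 8, 2, 10, 0, 2, 8, 10, 6, 0, 4, 6, 10, 8, 2, 10, 0, 2, 8, 10, 6, 4, 0], [4, 0, 8, 2, 4, 10, 2, 8, 10, 4, 2, 8, 2, 0, 6, 10, 8, 2, 10, 0, 2, 8, 10, 6], [4, 2, 8, 2, 0, 2, 10, 8, 2, 10, 2, 0, 8, 0, 8, 6, 10, 8, 6, 8, 10, 8, 2, 10, 0, 2, 8, 10, 6, 8, 6, 10, 8, 6, 8, 6, 0, 0], [], [10, 4, 6, 8, 6, 8, 10, 2, 4, 2, 10, 2, 6, 10, 8, 2, 10, 0, 2, 8, 10, 6, 8, 6, 10, 8, 6, 8, 6, 0, 0, 0, 0], [2, 8, 4, 2, 0, 8, 6, 10, 2, 8, 6, 8, 6, 8, 10, 6, 8, 0, 6, 10, 8, 2, 10, 0, 2, 8, 10, 6, 8, 6, 10, 8, 6, 8, 6, 4, 0, 0], [4, 8, 0, 2, 0, 8, 0, 6, 10, 8, 2, 10, 0, 2, 8, 10, 6, 4, 0, 0, 0, 0], [10, 4, 2, 8, 2, 10, 8, 0, 8, 2, 4, 8, 6, 10, 8, 2, 10, 0, 2, 8, 10, 8, 6, 8, 10, 6, 8, 4, 0, 0, 0, 0], [10, 6, 8, 6, 2, 10, 4, 8, 2, 8, 2, 8, 6, 10, 8, 6, 8, 6, 0, 6, 10,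 8, 2, 10, 0, 2, 8, 10, 8, 6, 8, 10, 6, 8, 0, 0, 0, 0], [10, 6, 4, 2, 10, 0, 8, 2, 8, 10, 0, 6, 10, 8, 2, 10, 0, 2, 8, 10, 6, 4, 0, 0, 0, 0], [4, 6, 8, 10, 8, 2, 4, 10, 2, 4, 2, 4, 6, 10, 8, 6, 8, 6, 4, 6, 10, 8, 2, 10, 0, 2, 8, 10, 6, 0, 0, 0], [10, 8, 0, 2, 4, 2, 10, 2, 6, 8, 10, 6, 8, 6, 10, 8, 2, 10, 0, 2, 8, 10, 8, 6, 8, 10, 6, 8, 6, 10, 8, 2, 10, 0, 2, 8, 10, 6, 0], [], [2, 10, 2, 4, 2, 0, 8, 6, 10, 2, 6, 10, 8, 2, 10, 0, 2, 8, 10, 6, 8, 6, 10, 8, 6, 8, 10, 8, 2, 10, 0, 2, 8, 10, 6, 0], [0, 6, 4, 8, 0, 2, 10, 2, 4, 2, 8, 10, 8, 2, 10, 0, 2, 8, 10, 6, 0, 0, 0, 0, 0], [], [10, 0, 2, 8, 4, 8, 2, 0, 8, 10, 6, 10, 8, 2, 10, 0, 2, 8, 10, 6, 8, 6, 10, 8, 6, 8, 6, 0, 0, 0, 0, 0], [0, 8, 4, 2, 10, 2, 4, 0, 8, 0, 4, 6, 10, 8, 2, 10, 0, 2, 8, 10, 8, 6, 8, 10, 6, 8, 4, 6, 10, 8, 2, 10, 0, 2, 8, 10, 6, 0,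 0, 0], [4, 2, 8, 2, 10, 0, 2, 4, 8, 2, 8, 10, 4, 6, 8, 6, 8, 10, 6, 8, 6, 10, 8, 2, 10, 0, 2, 8, 10, 8, 6, 8, 10, 6, 8, 4, 0], [2, 6, 8, 10, 2, 4, 2, 6, 8, 6, 8, 10, 6, 8, 6, 10, 8, 2, 10, 0, 2, 8, 10, 6, 8, 6, 10, 8, 6, 8, 6, 0, 0, 0], [2, 10, 0, 4, 8, 6, 4, 2, 8, 4, 8, 6, 10, 8, 2, 10, 0, 2, 8, 10, 6, 4, 6, 10, 8, 2, 10, 0, 2, 8, 10, 8, 6, 8, 10, 6, 8, 0, 0], [], [0, 8, 0, 2, 0, 8, 6, 10, 8, 2, 10, 0, 2, 8, 10, 8, 6, 8, 10, 6, 8, 0, 0, 0, 0], [8, 2, 4, 2, 10, 0, 2, 10, 4, 8, 2, 0, 8, 0, 8, 6, 10, 8, 6, 8, 10, 8, 2, 10, 0, 2, 8, 10, 6, 0, 6, 10, 8, 2, 10, 0, 2, 8, 10, 6], [6, 10, 2, 8, 2, 4, 8, 10, 0, 6, 10, 8, 2, 10, 0, 2, 8, 10, 6, 8, 6, 10, 8, 6, 8, 6, 0, 0, 0], [10, 4, 6, 2, 0, 8, 10, 4, 0, 0, 0], [2, 0, 8, 10, 6, 4, 8, 10, 2, 10, 6, 8, 10, 6, 8, 6, 10, 8, 2, 10, 0, 2, 8, 10, 8, 6, 8, 10, 6,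 8, 0, 0], [8, 4, 2, 4, 2, 10, 4, 0, 6, 10, 8, 2, 10, 0, 2, 8, 10, 6, 0, 6, 10, 8, 2, 10, 0, 2, 8, 10, 6, 0, 6, 10, 8, 2, 10, 0, 2, 8, 10, 6, 4, 0, 0], [10, 0, 2, 0, 8, 4, 8, 10, 2, 6, 8, 10, 2, 6, 10, 8, 2, 10, 0, 2, 8, 10, 8, 6, 8, 10, 6, 8, 4, 0, 0, 0, 0], [4, 0, 8, 4, 2, 6, 0, 4, 8, 10, 2, 0, 10, 2, 10, 4, 6, 10, 8, 2, 10, 0, 2, 8, 10, 6, 0, 0, 0, 0, 0]]
noncomputable def Bs : List (List ℕ) := [[1, 4, 16, 64, 256, 1024, 4096, 16384, 65536],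
  [1, 8, 48, 64, 512, 3072, 4096, 32768, 196608],
  [1, 12, 32, 64, 768, 2048, 4096, 49152, 131072],
  [1, 4, 16, 128, 512, 2048, 12288, 49152, 196608],
  [1, 8, 48, 128, 768, 1024, 12288, 16384, 131072],
  [1, 12, 32, 128, 256, 3072, 12288, 32768, 65536],
  [1, 4, 16, 192, 768, 3072, 8192, 32768, 131072],
  [1, 8, 48, 192, 256, 2048, 8192, 49152, 65536],
  [1, 12, 32, 192, 512, 1024, 8192, 16384, 196608],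
  [1, 8, 32, 128, 768, 3072, 8192, 49152, 196608],
  [2, 4, 32, 192, 512, 3072, 12288, 32768, 196608],
  [2, 8, 16, 192, 768, 2048, 12288, 49152, 131072],
  [2, 12, 48, 64, 512, 2048, 8192, 49152, 196608],
  [3, 8, 48, 128, 256, 2048, 12288, 32768, 196608],
  [3, 12, 32, 128, 512, 1024, 12288, 49152, 131072],
  [2, 12, 48, 128, 768, 3072, 4096, 32768, 131072],
  [3, 8, 48, 192, 512, 3072, 8192, 16384, 131072],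
  [3, 12, 32, 192, 768, 2048, 8192, 32768, 65536],
  [1, 4, 16, 64, 256, 1024, 4096, 16384, 65536],
  [16, 1, 4, 1024, 64, 768, 65536, 4096, 32768],
  [4, 16, 1, 256, 2048, 64, 16384, 196608, 4096],
  [4096, 16384, 65536, 1, 4, 16, 64, 512, 3072],
  [65536, 12288, 16384, 32, 1, 4, 1024, 64, 256],
  [16384, 65536, 8192, 12, 16, 1, 256, 1024, 64],
  [64, 256, 1024, 4096, 49152, 131072, 1, 4, 16],
  [1024, 128, 256, 65536, 4096, 16384, 48, 1, 4],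
  [256, 1024, 192, 16384, 65536, 4096, 8, 16, 1],
  [1, 4, 16, 64, 256, 1024, 4096, 16384, 65536],
  [1, 64, 4096, 16, 1024, 65536, 4, 256, 16384],
  [1, 4096, 64, 4, 16384, 256, 16, 65536, 1024],
  [1, 4, 16, 64, 256, 1024, 4096, 16384, 65536],
  [1, 65536, 256, 16384, 64, 16, 1024, 4, 4096],
  [1, 1024, 16384, 65536, 4, 64, 256, 4096, 16],
  [1, 16, 4, 4096, 65536, 16384, 64, 1024, 256],
  [1, 16384, 1024, 256, 16, 4096, 65536, 64, 4],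
  [1, 256, 65536, 1024, 4096, 4, 16384, 16, 64],
  [1, 4, 16, 64, 256, 1024, 4096, 16384, 65536],
  [1, 4116, 84, 4176, 17664, 82176, 4164, 66816, 82944],
  [1, 84, 4116, 4164, 82944, 66816, 4176, 82176, 17664],
  [1, 4164, 4176, 4116, 66816, 17664, 84, 82944, 82176],
  [1, 82176, 66816, 82944, 4116, 4176, 17664, 4164, 84],
  [1, 17664, 82944, 82176, 4164, 4116, 66816, 84, 4176],
  [1, 4176, 4164, 84, 82176, 82944, 4116, 17664, 66816],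
  [1, 82944, 17664, 66816, 4176, 84, 82176, 4116, 4164],
  [1, 66816, 82176, 17664, 84, 4164, 82944, 4176, 4116]]
theorem As0_inv : T.invB 9 4 As0 = true := by decide +kernel
theorem W_ok : T.exB 9 6 As0 W As = true := by decide +kernel
theorem V_ok : T.memB 9 As [0, 2, 4, 6, 8, 10] V Bs = true := by decide +kernel
open Cfsg.Spor
noncomputable def σ : F9 ≃ Fin 9 := (finProdFinEquiv : Fin 3 × Fin 3 ≃ Fin (3 * 3))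
noncomputable def cA (Z w z : F9) : ℕ := if w = z then (Z.1 * z.1 + Z.2 * z.2).val + 1 else 0
noncomputable def cE (Z w z : F9) : ℕ := if w = z then ((Z.1 - z.1) ^ 2 + (Z.2 - z.2) ^ 2).val + 1 else 0
noncomputable def cD (Z w z : F9) : ℕ := if w = z + Z then (if z = 0 then 1 else if F9.div Z z = F9.I - F9.one then 2
  else if F9.div Z z = -F9.I - F9.one then 3 else 1) else 0
noncomputable def cB (Z w z : F9) : ℕ := if w = F9.mul Z z then 1 else 0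
noncomputable def cC (Z w z : F9) : ℕ := if z = 0 then (if w = 0 then 1 else 0)
  else if w = -F9.div Z z ∨ w = F9.mul F9.I (F9.div Z z) ∨ w = -F9.mul F9.I (F9.div Z z) then 1 else 0
noncomputable def dgt (f : ℕ) (Z w z : F9) : ℕ := T.dg (nth 0 (nth [] Bs (9 * f + σ Z)) (σ w)) (σ z)
theorem dA : ∀ Z w z, cA Z w z = dgt 0 Z w z := by decide +kernel
theorem dE : ∀ Z w z, cE Z w z = dgt 1 Z w z := by decide +kernel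
theorem dD : ∀ Z w z, cD Z w z = dgt 2 Z w z := by decide +kernel
theorem dB : ∀ Z, Z ≠ 0 → ∀ w z, cB Z w z = dgt 3 Z w z := by decide +kernel
theorem dC : ∀ Z, Z ≠ 0 → ∀ w z, cC Z w z = dgt 4 Z w z := by decide +kernel
theorem B0 : nth [] As0 0 = nth [] Bs 9 ∧ nth [] As0 2 = nth [] Bs 21 ∧ nth [] As0 4 = nth [] Bs 31 ∧
  nth [] As0 6 = nth [] Bs 39 := by decide +kernel

variable {F : Type*} [Field F] [Fintype F] (hF : Fintype.card F = 4) (ω : F) (hω : ω ^ 2 + ω + 1 = 0)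
include hF in
theorem charP : CharP F 2 := charP_of_card_eq_prime_pow (p := 2) (f := 2) hF
include hF hω
theorem sq : ω ^ 2 = 1 + ω := by
  haveI := charP hF
  have h2 : (2 : F) = 0 := CharP.cast_eq_zero F 2
  linear_combination hω - (1 + ω) * h2
theorem hT : T.OK (FT.el 2 ω) := by
  haveI := charP hF
  have h := sq hF ω hω
  exact FT.okB_sound (by push_cast; linear_combination ω * h) (Or.inr ⟨rfl, by simpa using h⟩) T_ok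
theorem e_pow (n : ZMod 3) : omegaPow F ω n = FT.el 2 ω (n.val + 1) := by
  have h := sq hF ω hω
  have h3 : n.val < 3 := n.val_lt
  unfold omegaPow
  generalize n.val = m at h3
  interval_cases m <;> simp [FT.el, h]
theorem hA (Z : F9) : j3A F ω Z = T.mat (FT.el 2 ω) σ (nth [] Bs (9 * 0 + σ Z)) := by
  ext w z
  change _ = FT.el 2 ω (dgt 0 Z w z)
  rw [← dA, j3A, cA, Matrix.diagonal_apply]
  split_ifs with h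
  · rw [h, e_pow hF ω hω]
  · simp [FT.el]
theorem hE (Z : F9) : j3E F ω Z = T.mat (FT.el 2 ω) σ (nth [] Bs (9 * 1 + σ Z)) := by
  ext w z
  change _ = FT.el 2 ω (dgt 1 Z w z)
  rw [← dE, j3E, cE, Matrix.diagonal_apply]
  split_ifs with h
  · rw [h, e_pow hF ω hω]
  · simp [FT.el]
theorem hD (Z : F9) : j3D F ω Z = T.mat (FT.el 2 ω) σ (nth [] Bs (9 * 2 + σ Z)) := by
  ext w z
  change _ = FT.el 2 ω (dgt 2 Z w z)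
  rw [← dD, j3D, cD, Matrix.of_apply, j3Lam]
  split_ifs <;> simp [FT.el, sq hF ω hω]
omit hF hω [Fintype F] in
theorem hB (Z : F9) (hZ : Z ≠ 0) : j3B F Z = T.mat (FT.el 2 ω) σ (nth [] Bs (9 * 3 + σ Z)) := by
  ext w z
  change _ = FT.el 2 ω (dgt 3 Z w z)
  rw [← dB Z hZ, j3B, cB, Matrix.of_apply]
  split_ifs <;> simp [FT.el]
omit hF hω [Fintype F] in
theorem hC (Z : F9) (hZ : Z ≠ 0) : j3C F Z = T.mat (FT.el 2 ω) σ (nth [] Bs (9 * 4 + σ Z)) := by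
  ext w z
  change _ = FT.el 2 ω (dgt 4 Z w z)
  rw [← dC Z hZ, j3C, cC, Matrix.of_apply]
  split_ifs <;> simp [FT.el]
omit hF hω [Fintype F] in
/-- the matrix representation of the triple cover -/
noncomputable def ρ : threeJ3 F ω →* Matrix F9 F9 F := (Units.coeHom _).comp (threeJ3 F ω).subtype
omit hF hω [Fintype F] in
theorem hρ : Function.Injective (ρ ω) := fun _ _ h => Subtype.ext (Units.ext h)
omit hF hω [Fintype F] in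
/-- the generators of the triple cover -/
noncomputable def γ0 : ℕ → threeJ3 F ω := T.gam (FT.el 2 ω) σ (ρ ω) As
omit hF hω [Fintype F] in
/-- the generators -/
noncomputable def γ : ℕ → J3 F ω := qg (Subgroup.center _) (γ0 ω)
theorem lets : T.Lets (FT.el 2 ω) σ (fun a => ρ ω (ext (γ0 ω) a)) As :=
  have hT := hT hF ω hω
  FT.lets_gam hT As_inv (FT.exB_sound hT (FT.lets_gam hT As0_inv fun j hj => by
    obtain ⟨u, hu⟩ := FT.exists_unit (σ := σ) hT As0_inv hj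
    refine ⟨⟨u, Subgroup.subset_closure ?_⟩, hu⟩
    change (u : Matrix F9 F9 F) ∈ j3Gens F ω
    rw [hu]
    interval_cases j
    · exact .inl (.inl (.inl (.inr ⟨(0, 0), (hE hF ω hω _).trans (congrArg _ B0.1.symm)⟩)))
    · exact .inl (.inl (.inr ⟨(1, 0), (hD hF ω hω _).trans (congrArg _ B0.2.1.symm)⟩))
    · exact .inl (.inr ⟨(1, 1), by decide, ((hB ω (1, 1) (by decide)).trans (congrArg _ B0.2.2.1.symm)).symm⟩)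
    · exact .inr ⟨(1, 0), by decide, ((hC ω (1, 0) (by decide)).trans (congrArg _ B0.2.2.2.symm)).symm⟩) W_ok)
theorem gen_top0 : gp (γ0 ω) [0, 2, 4, 6, 8, 10] = ⊤ := eq_top_of_closure fun s hs => by
  have key : ∀ (f : ℕ) (Z : F9), f < 5 → (s : Matrix F9 F9 F) = T.mat (FT.el 2 ω) σ (nth [] Bs (9 * f + σ Z)) →
      (⟨s, Subgroup.subset_closure hs⟩ : threeJ3 F ω) ∈ gp (γ0 ω) [0, 2, 4, 6, 8, 10] := fun f Z hf h =>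
    FT.memB_sound (hT hF ω hω) (hρ ω) (lets hF ω hω) V_ok (i := 9 * f + σ Z)
      (by have := (σ Z).2; change _ < 45; omega) h
  rcases hs with (((⟨Z, h⟩ | ⟨Z, h⟩) | ⟨Z, h⟩) | ⟨Z, hZ, h⟩) | ⟨Z, hZ, h⟩
  exacts [key 0 Z (by decide) (h.symm.trans (hA hF ω hω Z)), key 1 Z (by decide) (h.symm.trans (hE hF ω hω Z)),
    key 2 Z (by decide) (h.symm.trans (hD hF ω hω Z)), key 3 Z (by decide) (h.trans (hB ω Z hZ)),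
    key 4 Z (by decide) (h.trans (hC ω Z hZ))]
theorem gen_top : gp (γ ω) [0, 2, 4, 6, 8, 10] = ⊤ := gp_qg _ (gen_top0 hF ω hω)
theorem rels' : Holds (ext (γ ω)) RR := rels (hT hF ω hω) (hρ ω) (lets hF ω hω)
theorem gam1 (j : ℕ) (hj : 6 ≤ j) : γ ω j = 1 := by
  rw [γ, qg, γ0, FT.gam_of_le rfl j hj, map_one]
theorem cert : ∃ φ, Cert φ (γ ω) 13 l0_ns n_ts [0, 2, 4, 6, 8, 10] d_ls :=
  cert0 (hT hF ω hω) (hρ ω) (lets hF ω hω) (FT.gam_of_le rfl) (gen_top0 hF ω hω)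
theorem card_eq : Nat.card (J3 F ω) = 50232960 := by
  obtain ⟨φ, C⟩ := cert hF ω hω
  exact C.card.trans (by decide +kernel)

end Cfsg.Agent.J3C
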