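import Cfsg.Agent.J3C.Cert
import Cfsg.Agent.CGT.Out

set_option autoImplicit false
set_option Elab.async false
set_option maxRecDepth 100000
set_option linter.all false

namespace Cfsg.Agent.J3C
open Cfsg.Agent.CGT

noncomputable def g_Ws : List (List ℕ) := [[2, 4, 2, 8, 10, 0, 2, 8, 10, 0, 4, 2, 4, 8, 4], [2, 10, 2, 10, 8, 2, 10, 2, 8, 2, 10, 2, 4], [10, 2, 10, 2, 8, 10, 2, 0, 8, 2, 10, 0, 2, 4], [8, 6, 4, 2, 8, 6, 2, 8], [8, 6, 4, 0, 2, 4, 2, 8, 2], [0, 2], [2], [0], [0], [2], [4], [6], [8], [10]]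
theorem g_s0 : slpB 13 n_ts (chainBase [] d_ls) g_Ws [[0, 0, 0, 4, 0, 4, 0, 4, 2, 4, 1, 5], [1, 1, 4, 1, 3, 4, 1, 5], [7, 8, 8, 8, 7, 8, 6, 9], [9, 6, 6, 9, 9, 9, 6, 9, 9, 9], [10, 12], [14], [11, 14], [8, 8, 6, 8, 8, 6, 14], [7, 9, 6, 6, 6, 8, 6], [6, 9, 6, 8, 7, 8, 6], [1, 1, 5, 1, 1, 4, 1, 8, 6, 6, 8, 7, 8, 6, 10]] 3 14 = true := by decide +kernel
theorem g_top {G : Type*} [Group G] {φ : G →* Equiv.Perm ℕ} {γ : ℕ → G}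
    (C : Cert φ γ 13 l0_ns n_ts [0, 2, 4, 6, 8, 10] d_ls) : gw γ (g_Ws.take 3) = ⊤ := by
  have h0 : SlpTo γ (gw γ (g_Ws.take 3)) g_Ws 3 := fun i hi =>
    ev_mem_gw γ (by interval_cases i <;> decide +kernel)
  rw [eq_top_iff, ← C.gen]
  exact SlpTo.gp_le (SlpTo.step C.M C.base (by decide +kernel) h0 g_s0) (by decide +kernel)

end Cfsg.Agent.J3C
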