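import Cfsg.Agent.J3C.OutU
import Cfsg.Agent.CGT.Out3

set_option autoImplicit false
set_option Elab.async false
set_option maxRecDepth 100000
set_option linter.all false

namespace Cfsg.Agent.J3C
open Cfsg.Agent.CGT

noncomputable def od : OutD := ⟨13, n_ts, (chainBase [] d_ls), [2, 4, 2, 8, 10, 0, 2, 8, 10, 0, 4, 2, 4, 8, 4], [2, 10, 2, 10, 8, 2, 10, 2, 8, 2, 10, 2, 4], [10, 2, 10, 2, 8, 10, 2, 0, 8, 2, 10, 0, 2, 4], [2, 10, 2, 10, 8, 2, 10, 2, 8, 2, 10, 2, 4], 19, 4, 1, 1, 8, [1, 2], [[6, 2, 8, 10, 0, 2, 10, 8, 2, 10, 8, 2, 8, 0, 8, 6, 2], [0, 8, 2, 8, 10, 2, 8, 0, 8, 2, 10, 2, 4, 8, 2, 8, 2, 0]], [[1, 4, 1, 1, 5, 1, 4, 1, 1, 5, 1, 4, 1, 1, 5], [0, 4, 0, 4, 0, 4, 0, 4, 0, 4, 0, 4, 0, 4, 0, 4, 0, 4, 0, 4]], [[[2, 4, 2, 8, 10, 0, 2, 8, 10, 0, 4, 2, 4, 8, 4], [2, 10, 2, 10, 8,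 2, 10, 2, 8, 2, 10, 2, 4], [10, 2, 10, 2, 8, 10, 2, 0, 8, 2, 10, 0, 2, 4]], [[8, 0, 2, 8, 10, 8, 4, 2, 10, 8, 0, 2, 4, 8], [2, 10, 2, 10, 8, 2, 10, 2, 8, 2, 10, 2, 4], [10, 2, 8, 10, 0, 8, 6, 2, 4]]]⟩
theorem od_b : od.basic 50232960 0 = true := by decide +kernel
theorem od_c : conjB 13 n_ts (chainBase [] d_ls) [8, 2, 8, 4, 2, 0, 10, 2] od.u cu_S.u od.Cl cu_S.Cl = true := by decide +kernel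
theorem od_k1_0 : od.cands 1 ((([] :: od.Cl).drop 0).take 3) [[0, 1, 1, 1, 1, 1, 1, 1, 1], [3, 1, 1, 1, 1, 1, 1, 1, 1], [1, 1, 1, 3, 1, 1, 1, 1, 1]] = true := by decide +kernel
theorem od_k2_0 : od.cands 2 ((([] :: od.Cl).drop 0).take 3) [[3, 1, 1, 1, 1, 1, 1, 1, 1], [2, 1, 1, 1, 1, 1, 1, 1, 1], [1, 1, 1, 3, 1, 1, 1, 1, 1]] = true := by decide +kernel

end Cfsg.Agent.J3C
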