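import Cfsg.Agent.J3C.OutX
import Cfsg.Agent.J3C.OutK
import Cfsg.Agent.J3C.OutG

set_option autoImplicit false
set_option Elab.async false
set_option maxRecDepth 100000
set_option linter.all false

namespace Cfsg.Agent.J3C
open Cfsg.Agent.CGT

noncomputable def bW : List (List ℕ) := [[2, 10, 2, 10, 0, 2, 10, 8, 2, 10, 0, 4, 2, 8, 2, 4, 8], [4, 8, 6, 8, 10, 6, 8, 2, 10, 8, 0, 2, 10, 8, 6, 4, 8], [6, 2, 10, 8, 4, 2, 10, 6, 8, 2, 8, 10, 2, 4, 2, 8, 0], [4, 2, 10, 8, 0, 8, 4, 2, 10, 8, 6, 2, 0, 8, 4, 0], [4, 0, 2, 10, 0, 2, 8, 4, 2, 10, 6, 4, 0, 2, 4, 2], [4, 2, 10, 2, 8, 10, 4, 8, 2, 10, 2, 4]]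
noncomputable def bV : List (List ℕ) := [[10, 2, 8, 10, 4, 2, 8, 2, 10, 4, 8, 2, 10], [2, 8, 10, 2, 0, 8, 10, 2, 10, 6, 2, 8, 2, 0], [2, 10, 6, 8, 4, 2, 8, 10, 2, 10, 2, 0, 4, 8, 2, 0], [6, 2, 8, 10, 0, 8, 6, 2], [0, 8, 6, 2, 10, 8, 4, 8, 2, 10, 0, 8, 4, 8, 2, 8, 0], [6, 8, 6, 4, 8, 2, 10, 2, 8, 10, 0, 8]]
theorem od_s : od.second bW [] [8, 0, 2, 8, 10, 8, 4, 2, 10, 8, 0, 2, 4, 8] [10, 2, 8, 10, 0, 8, 6, 2, 4] = true := by decide +kernel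
theorem od_o : od.outer [8, 0, 2, 8, 10, 8, 4, 2, 10, 8, 0, 2, 4, 8] [10, 2, 8, 10, 0, 8, 6, 2, 4] ([] :: od.Cl) [[1, 1, 1, 1, 1, 1, 1, 1, 1], [1, 1, 1, 1, 1, 1, 1, 1, 1], [1, 1, 1, 1, 1, 1, 1, 1, 1]] = true := by decide +kernel
theorem out_card {G : Type*} [Group G] {φ : G →* Equiv.Perm ℕ} {γ : ℕ → G} (C : Cert φ γ 13 l0_ns n_ts [0, 2, 4, 6, 8, 10] d_ls)
    (hN : Nat.card G = 50232960) (β : MulAut G) (hβ : ∀ j, β (γ j) = wg γ bW j) : Nat.card (Cfsg.Out G) = 2 :=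
  haveI := C.fin
  OutD.out_two (D := od) C.M C.base hN (by norm_num [od]) od_b (cx_cent C) ((cu_cent C).conj C.M C.base od_c)
    (by
    intro k hk
    simp only [od, List.mem_cons, List.not_mem_nil, or_false] at hk
    rcases hk with rfl | rfl
    exacts [forall_of_take (forall_take_step (c := 3) (forall_take_zero _) (OutD.cands_sound C.M C.base od_b od_k1_0) rfl) (by decide +kernel), forall_of_take (forall_take_step (c := 3) (forall_take_zero _) (OutD.cands_sound C.M C.base od_b od_k2_0) rfl) (by decide +kernel)]) (g_top C) rfl β hβ od_s od_o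
theorem out_eq {F : Type*} [Field F] [Fintype F] (hF : Fintype.card F = 4) (ω : F) (hω : ω ^ 2 + ω + 1 = 0) : Nat.card (Cfsg.Out (Cfsg.Spor.J3 F ω)) = 2 := by
  obtain ⟨φ, C⟩ := cert hF ω hω
  haveI := C.fin
  have h : Holds (ext (wg _ bW)) RR := relsD_sound C.M C.base (by decide +kernel) (fun _ _ => trivial) (by decide +kernel)
  obtain ⟨f, hf⟩ := hom_of_bound C.gen (card_eq hF ω hω) (bd0 ((rels' hF ω hω).pair h)) (m := 6) (gam1 hF ω hω)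
    (fun j hj => by rw [wg, nth_eq, List.getD_eq_default bW _ hj]; rfl) (by decide +kernel)
  obtain ⟨β, hβ⟩ := exists_aut' C.M C.base (by decide +kernel) C.gen (V := bV) f hf (by decide +kernel)
  exact out_card C (card_eq hF ω hω) β hβ

end Cfsg.Agent.J3C
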