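import Cfsg.Agent.J3C.Cert
import Cfsg.Agent.CGT.Out

set_option autoImplicit false
set_option Elab.async false
set_option maxRecDepth 100000
set_option linter.all false

namespace Cfsg.Agent.J3C
open Cfsg.Agent.CGT

noncomputable def cx_l0 : Level := ⟨0, [[0], [2], [4], [6], [8], [10]], [5, 1, 4, 0, 2, 5, 4, 1, 3, 5, 4, 2, 1, 0, 5, 4, 2, 1, 3, 4, 2], 0xffffffffffffffffffffffffffffffffffffffffffffffffffffffffffffffffffffffffffffffffffffffffffffffffffffffffffffffffffffffffffffffffffffffffffffffffffffffffffffffffffffffffffffffffffffffffffffffffffffffffffffffffffffffffffffffffffffffffffffffffffffffffffffffffffffffffffffffffffffffffffffffffffffffffffffffffffffffffffffffffffffffffffffffffffffffffffffffffffffffffffffffffffffffffffffffffffffffffffffffffffffffffffffffffffffffffffffffffffffffffffffffffffffffffffffffffffffffffffffffffffffffffffffffffffffffff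fffffffffffffffffffffffffffffffffffffffffffffffffffffffffffffffffffffffffffffffffffffffffffffffffffffffffffffffffffffffffffffffffffffffffffffffffffffffffffffffffffffffffffffffffffffffffffffffffffffffffffffffffffffffffffffffffffffffffffffffffffffffffffffffffffffffffffffffffffffffffffffffffffffffffffffffffffffffffffffffffffffffffffffffffffffffffffffffffffffffffffffffffffffffffffffffffffffffffffffffffffffffffffffffffffffffffffffffffffffffffffffffffffffffffffffffffffffffffffffffffffffffffffffffffffffffffffffffffffffffffffffffffffffffffffffffffffffffffffffffffffffffffffffffffffffffffffffffffffffffffffffffffffffffffffffffffffffffffffffffffffffffffffffffffffffffffffffffffffffffffffffffffffffffffffffffffffffffffffffffffffffffffffffffffffffffffffffffffffffffffffffffffffffffffffffffffffffffffffffffffffffffffffffffffffffffffffffffffffffffffffffffffffffffffffffffffffffffffffffffffffffffffffffffffffffffffffffffffffffffffffffffffffffffffffffffffffffffffffffffffffffffffffffffffffffffffffffffffffffffffffffffffffffffffffffffffffffffffff,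 6156⟩
noncomputable def cx_l1 : Level := ⟨987, [[0], [2], [4], [6], [8]], [2, 3, 4, 1, 0, 2, 4, 1, 2, 4, 0, 1, 2, 3, 4, 1], 0xc00004c000000080800000000000000000000000060000800000000000000000000000000000000000000000000001002000000000000014088000001500000680608400000000022bb001e010003202223010000000000000000000000000000000000000000007ce00004ff80000100000000494c0000018000000000000000000000000000000000001a8020a96b2c91005b0400000000000002f0153270004547e0001483c00681000001211801af0098000000000000364a000f32cb46000000156000000000000000000000009c0000000008a67ede01cc0000007fc045a0a114001801000000000000000800400000000070059ce8e72fbff7fdfef1ef8c21ff133a8003c000081000000002c3f8303b473c000000000000000000000000040000001000c5300361e9a0218d116ec170cd8d6c004003cc48003ad37b96e0002005ffffffe3d741c5aad6dcb000000000004000000000000003fff7e8001dffff3c800007c02100080bf846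6c40008000000000000000000001000000022d42d6ff7bed8f5d0000077c73afa11fdffc03de7e39d80bb47e2800000dfde07def4c0007e00000000000000ebc00000030bd7eff3a4000ff8b9ed81800000000000401000000000010635b7ffffff7fffbfc8fb7b8821200001df50e7800000000000000000000006f1cd976cf2de7d800690000f3d5f80c0ffffef1bdeeb00000000007fff6807ffea006e00001c2901000000000000001eefff780f7f9fcfbbcf6c01fcf6c0e0000001e002efed81e6e40000000000000bfffffe3e1003758000000000ef7af70800df23feff0001fb8fdc3010000003ff3dbee3b900185dcda0000ffb01a800077c07a7f01c710007be62040ca01d010071030a40e8082042080000, 1360⟩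
noncomputable def cx_l2 : Level := ⟨1477, [[0], [2]], [], 0x2000000000000000000000000000000000000000000000000000000000000000000000000000000000000000000000000000000000000000000000000000000000000000000000000000000000000000000000001000000000000000000000000000000000000000000000000000000000000000000000000000000000000000000000000000000000000000000000000000000000000000000000000000000000000000000000000000000000000000000000000000000000000000000000000000000000000000000000000000000000000002000100000000000000000000000000000000000000000000000000000000000000000000000000000000000000000000000008000000000000000000000000000000000000000000000000000000000000000000000000000000000000000000000000000000000000000000002000000000000000000000000000000000000000000000000000000000000000000000000000000000000000000000000000000000000000000000000000000000000000000000000000000, 6⟩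
noncomputable def cx_ls : List Level := [cx_l0, cx_l1, cx_l2]
noncomputable def cx_S : Srch := ⟨13, n_ts, (chainBase [] d_ls), [2, 4, 2, 8, 10, 0, 2, 8, 10, 0, 4, 2, 4, 8, 4], [2, 4, 2, 8, 10, 0, 2, 8, 10, 0, 4, 2, 4, 8, 4], []⟩
noncomputable def cx_lk : List ℕ := [1, 988]
noncomputable def cx_tl : List Level := [cx_l1, cx_l2]
noncomputable def cx_R0 : ℕ := 0x10000000000000000000000000000000000000000000000000000000000000000000000200000000000000000000000000000000000000000000000010100000000000000000000008000000000002000000000000000000020000000000800400008011000000000000000140102000012208040000408104000009000014004002000001800001000202000000200000000000040020342820004444402a0200c08000642114e0211880004440030c40400740922008d2a811a0c07504231a423a386a4e2deb1ca62c736f793dd0a06ed3849e5ffb8bfbf56ebe7ffefffeae6efbfddffffffff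
theorem cx_l0_ok : (ptsOK 13 [] && (wordsIn [0, 2, 4, 6, 8, 10] cx_l0.S && cx_l0.ok 13 l0_ns n_ts [])) = true := by decide +kernel
theorem cx_l1_ok : (ptsOK 13 [0] && (wordsIn [0, 2, 4, 6, 8, 10] cx_l1.S && cx_l1.ok 13 l0_ns n_ts [0])) = true := by decide +kernel
theorem cx_l2_ok : cx_l2.okT 13 n_ts [0, 2, 4, 6, 8, 10] [987, 0] (.cons [0] (.cons [2] (.cons [0] .nil .nil) .nil) (.cons [2] (.cons [0] .nil .nil) .nil)) = true := by decide +kernel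
theorem cx_aux : cx_S.auxB [0, 2, 4, 6, 8, 10] cx_ls [] (0 :: cx_lk) = true := by decide +kernel
theorem cx_cov : Nat.beq (Nat.land cx_l0.O (Srch.cover l0_ns (invW cx_S.u') cx_R0 18)) cx_l0.O = true := by decide +kernel
theorem cx_r0 : cx_S.run (.cons [] (.cons [] (.cons [] (.leaf 2000) .nil) .nil) (.cons [10] .nil (.cons [2, 10] .nil (.cons [8, 10] .nil (.cons [0, 2, 10] .nil (.cons [4, 2, 10] .nil (.cons [8, 2, 10] .nil (.cons [10, 2, 10] .nil (.cons [2, 8, 10] .nil (.cons [6, 8, 10] .nil (.cons [4, 0, 2, 10] .nil (.cons [8, 0, 2, 10] (.cons [8, 2, 8, 4, 2, 4, 8, 4] .nil .nil) (.cons [10, 0, 2, 10] .nil (.cons [8, 4, 2, 10] .nil (.cons [10, 4, 2, 10] .nil (.cons [0, 8, 2, 10] (.cons [4, 2, 8, 0, 8, 2, 4] .nil .nil) (.cons [2, 8, 2, 10] .nil (.cons [4, 8, 2, 10] .nil (.cons [6, 8, 2, 10] (.cons [0, 4, 2, 4, 8, 6, 4] .nil .nil) (.cons [10, 8, 2, 10]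 .nil (.cons [8, 10, 2, 10] .nil (.cons [0, 2, 8, 10] .nil (.cons [4, 2, 8, 10] (.cons [8, 2, 8, 4] .nil .nil) (.cons [6, 2, 8, 10] .nil (.cons [8, 2, 8, 10] .nil (.cons [10, 2, 8, 10] (.cons [2, 4, 0, 6, 8, 4, 2, 4] .nil .nil) (.cons [8, 6, 8, 10] .nil (.cons [8, 4, 0, 2, 10] .nil (.cons [10, 4, 0, 2, 10] .nil (.cons [4, 8, 0, 2, 10] (.cons [4, 2, 4, 8, 4, 8] .nil .nil) (.cons [10, 8, 0, 2, 10] .nil (.cons [2, 10, 0, 2, 10] .nil (.cons [8, 10, 0, 2, 10] (.cons [8, 2, 4, 8, 4, 0, 8, 2, 4] .nil .nil) (.cons [2, 8, 4, 2, 10] .nil (.cons [4, 8, 4, 2, 10] .nil (.cons [6, 8, 4, 2, 10] .nil (.cons [2, 10, 4, 2, 10] .nil (.cons [8, 10, 4, 2, 10] .nil (.cons [2, 0, 8, 2, 10] (.cons [6, 8, 2, 8, 2, 4, 8, 6] .nil .nil) (.cons [4, 0, 8, 2, 10] .nil (.cons [8, 0, 8, 2, 10] .nil (.cons [10, 0, 8, 2, 10] .nil (.cons [0, 2, 8, 2, 10] .nil (.cons [4, 2, 8, 2, 10] (.cons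 [6, 8, 2, 8, 2, 4, 0, 8, 4] .nil .nil) (.cons [10, 2, 8, 2, 10] .nil (.cons [2, 4, 8, 2, 10] .nil (.cons [6, 4, 8, 2, 10] .nil (.cons [8, 4, 8, 2, 10] .nil (.cons [10, 4, 8, 2, 10] .nil (.cons [10, 6, 8, 2, 10] .nil (.cons [2, 10, 8, 2, 10] (.cons [6, 8, 6, 2, 4, 2, 8] .nil .nil) (.cons [8, 10, 8, 2, 10] .nil (.cons [2, 8, 10, 2, 10] .nil (.cons [4, 8, 10, 2, 10] (.cons [4, 2, 8, 0, 2, 8, 4] .nil .nil) (.cons [8, 0, 2, 8, 10] .nil (.cons [10, 0, 2, 8, 10] (.cons [4, 0, 8, 4, 2, 8, 6, 8] .nil .nil) (.cons [6, 4, 2, 8, 10] .nil (.cons [10, 4, 2, 8, 10] (.cons [6, 4, 2, 4, 2, 8] .nil .nil) (.cons [10, 6, 2, 8, 10] .nil (.cons [4, 8, 2, 8, 10] .nil (.cons [6, 8, 2, 8, 10] .nil (.cons [10, 8, 2, 8, 10] (.cons [0, 2, 4, 2, 8, 6] .nil .nil) (.cons [2, 10, 2, 8, 10] .nil (.cons [8, 10, 2, 8, 10] .nil (.cons [2, 8, 6, 8, 10] (.cons [8, 4, 2, 4, 2, 8] .nil .nil)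 (.cons [6, 8, 6, 8, 10] (.cons [6, 4, 2, 4, 8, 2, 8] .nil .nil) (.cons [0, 8, 4, 0, 2, 10] .nil (.cons [2, 8, 4, 0, 2, 10] .nil (.cons [4, 8, 4, 0, 2, 10] .nil (.cons [6, 8, 4, 0, 2, 10] .nil (.cons [10, 8, 4, 0, 2, 10] .nil (.cons [2, 10, 4, 0, 2, 10] .nil (.cons [8, 10, 4, 0, 2, 10] .nil (.cons [8, 4, 8, 0, 2, 10] .nil (.cons [2, 10, 8, 0, 2, 10] .nil (.cons [8, 10, 8, 0, 2, 10] .nil (.cons [4, 2, 10, 0, 2, 10] .nil (.cons [8, 2, 10, 0, 2, 10] .nil (.cons [0, 8, 10, 0, 2, 10] .nil (.cons [2, 8, 10, 0, 2, 10] .nil (.cons [4, 8, 10, 0, 2, 10] .nil (.cons [6, 8, 10, 0, 2, 10] .nil (.cons [2, 0, 8, 4, 2, 10] .nil (.cons [6, 0, 8, 4, 2, 10] .nil (.cons [8, 0, 8, 4, 2, 10] (.cons [8, 4, 2, 4, 8, 6, 8] .nil .nil) (.cons [10, 0, 8, 4, 2, 10] .nil (.cons [0, 2, 8, 4, 2, 10] .nil (.cons [4, 2, 8, 4, 2, 10] .nil (.cons [2, 4, 8, 4, 2, 10] (.cons [4, 8, 4, 8,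 2, 0, 4, 8] .nil .nil) (.cons [6, 4, 8, 4, 2, 10] .nil (.cons [8, 4, 8, 4, 2, 10] .nil (.cons [10, 4, 8, 4, 2, 10] .nil (.cons [8, 6, 8, 4, 2, 10] .nil (.cons [2, 10, 8, 4, 2, 10] (.cons [6, 4, 2, 0, 8, 4] .nil .nil) (.cons [0, 2, 10, 4, 2, 10] .nil (.cons [8, 2, 10, 4, 2, 10] .nil (.cons [0, 8, 10, 4, 2, 10] .nil (.cons [4, 8, 10, 4, 2, 10] .nil (.cons [6, 8, 10, 4, 2, 10] .nil (.cons [8, 2, 0, 8, 2, 10] .nil (.cons [2, 4, 0, 8, 2, 10] (.cons [0, 2, 0, 8, 2, 4, 8] .nil .nil) (.cons [2, 8, 0, 8, 2, 10] .nil (.cons [10, 8, 0, 8, 2, 10] .nil (.cons [2, 10, 0, 8, 2, 10] .nil (.cons [8, 10, 0, 8, 2, 10] .nil (.cons [4, 0, 2, 8, 2, 10] .nil (.cons [8, 0, 2, 8, 2, 10] .nil (.cons [2, 4, 2, 8, 2, 10] .nil (.cons [10, 4, 2, 8, 2, 10] (.cons [8, 2, 8, 6, 4] .nil .nil) (.cons [6, 8, 2, 8, 2, 10] (.cons [6, 4, 2, 4, 8] .nil .nil) (.cons [10, 8, 2, 8, 2, 10] .nil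 (.cons [2, 10, 2, 8, 2, 10] .nil (.cons [8, 10, 2, 8, 2, 10] .nil (.cons [0, 2, 4, 8, 2, 10] (.cons [2, 8, 4, 2, 4] .nil .nil) (.cons [10, 2, 4, 8, 2, 10] (.cons [0, 8, 6, 2, 8] .nil .nil) (.cons [6, 8, 4, 8, 2, 10] (.cons [2, 4, 6, 8, 2, 8, 6] .nil .nil) (.cons [10, 8, 4, 8, 2, 10] (.cons [8, 2, 8, 4, 8, 6, 2, 4] .nil .nil) (.cons [2, 10, 4, 8, 2, 10] .nil (.cons [0, 8, 6, 8, 2, 10] .nil (.cons [10, 8, 6, 8, 2, 10] .nil (.cons [2, 10, 6, 8, 2, 10] .nil (.cons [8, 10, 6, 8, 2, 10] .nil (.cons [0, 2, 10, 8, 2, 10] .nil (.cons [4, 2, 10, 8, 2, 10] .nil (.cons [8, 2, 10, 8, 2, 10] .nil (.cons [10, 2, 10, 8, 2, 10] .nil (.cons [0, 8, 10, 8, 2, 10] (.cons [4, 2, 8, 4, 8, 6] .nil .nil) (.cons [2, 8, 10, 8, 2, 10] (.cons [8, 2, 0, 8, 4] .nil .nil) (.cons [6, 8, 10, 8, 2, 10] .nil (.cons [6, 0, 8, 10, 2, 10] (.cons [8, 0, 2, 4, 2, 8, 6, 4] .nil .nil) (.cons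 [8, 0, 8, 10, 2, 10] .nil (.cons [0, 2, 8, 10, 2, 10] .nil (.cons [4, 2, 8, 10, 2, 10] .nil (.cons [10, 2, 8, 10, 2, 10] .nil (.cons [8, 4, 8, 10, 2, 10] (.cons [6, 8, 2, 4, 0, 2, 4] .nil .nil) (.cons [10, 8, 0, 2, 8, 10] .nil (.cons [2, 10, 0, 2, 8, 10] .nil (.cons [8, 10, 0, 2, 8, 10] (.cons [4, 0, 8, 0, 2, 8, 2, 4] .nil .nil) (.cons [6, 8, 4, 2, 8, 10] .nil (.cons [2, 10, 4, 2, 8, 10] .nil (.cons [8, 10, 4, 2, 8, 10] .nil (.cons [10, 0, 8, 2, 8, 10] .nil (.cons [2, 4, 8, 2, 8, 10] .nil (.cons [6, 4, 8, 2, 8, 10] .nil (.cons [10, 6, 8, 2, 8, 10] .nil (.cons [2, 10, 8, 2, 8, 10] .nil (.cons [4, 8, 10, 2, 8, 10] .nil (.cons [4, 2, 8, 6, 8, 10] .nil (.cons [10, 6, 8, 4, 0, 2, 10] .nil (.cons [8, 10, 8, 4, 0, 2, 10] .nil (.cons [0, 2, 10, 4, 0, 2, 10] (.cons [2, 8, 4, 8, 2, 8, 6, 8] .nil .nil) (.cons [8, 2, 10, 4, 0, 2, 10] .nil (.cons [2, 8, 10, 4,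 0, 2, 10] .nil (.cons [4, 8, 10, 4, 0, 2, 10] .nil (.cons [6, 8, 10, 4, 0, 2, 10] (.cons [6, 8, 2, 0, 8, 4] .nil .nil) (.cons [10, 8, 4, 8, 0, 2, 10] .nil (.cons [0, 2, 10, 8, 0, 2, 10] (.cons [8, 2, 4, 8, 4, 2, 4, 8] .nil .nil) (.cons [10, 2, 10, 8, 0, 2, 10] .nil (.cons [2, 8, 10, 8, 0, 2, 10] .nil (.cons [4, 8, 10, 8, 0, 2, 10] .nil (.cons [6, 8, 10, 8, 0, 2, 10] .nil (.cons [0, 8, 2, 10, 0, 2, 10] (.cons [6, 8, 2, 4, 8, 6] .nil .nil) (.cons [2, 8, 2, 10, 0, 2, 10] (.cons [6, 8, 4, 2, 8, 6, 8] .nil .nil) (.cons [4, 8, 2, 10, 0, 2, 10] (.cons [6, 8, 4, 2, 8, 6] .nil .nil) (.cons [6, 8, 2, 10, 0, 2, 10] .nil (.cons [2, 0, 8, 10, 0, 2, 10] .nil (.cons [0, 2, 8, 10, 0, 2, 10] .nil (.cons [8, 2, 8, 10, 0, 2, 10] (.cons [8, 2, 8, 6] .nil .nil) (.cons [10, 2, 8, 10, 0, 2, 10] .nil (.cons [8, 4, 8, 10, 0, 2, 10] .nil (.cons [8, 6, 8, 10, 0, 2, 10] .nil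 (.cons [4, 2, 0, 8, 4, 2, 10] .nil (.cons [10, 8, 0, 8, 4, 2, 10] (.cons [6, 2, 8, 2, 4, 8, 6] .nil .nil) (.cons [2, 10, 0, 8, 4, 2, 10] (.cons [8, 2, 4, 6, 0, 8, 6, 4] .nil .nil) (.cons [8, 0, 2, 8, 4, 2, 10] .nil (.cons [2, 10, 2, 8, 4, 2, 10] .nil (.cons [8, 10, 2, 8, 4, 2, 10] .nil (.cons [2, 10, 4, 8, 4, 2, 10] .nil (.cons [2, 10, 6, 8, 4, 2, 10] .nil (.cons [4, 2, 10, 8, 4, 2, 10] (.cons [4, 8, 2, 4, 8, 4] .nil .nil) (.cons [8, 2, 10, 8, 4, 2, 10] .nil (.cons [10, 2, 10, 8, 4, 2, 10] .nil (.cons [8, 0, 2, 10, 4, 2, 10] .nil (.cons [0, 8, 2, 10, 4, 2, 10] .nil (.cons [4, 8, 2, 10, 4, 2, 10] .nil (.cons [10, 8, 2, 10, 4, 2, 10] .nil (.cons [2, 0, 8, 10, 4, 2, 10] .nil (.cons [4, 0, 8, 10, 4, 2, 10] .nil (.cons [6, 0, 8, 10, 4, 2, 10] .nil (.cons [4, 2, 8, 10, 4, 2, 10] .nil (.cons [6, 2, 8, 10, 4, 2, 10] .nil (.cons [10, 2, 8, 10, 4, 2, 10] (.cons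 [6, 2, 4, 2, 4, 0, 8, 4] .nil .nil) (.cons [10, 4, 2, 0, 8, 2, 10] (.cons [0, 8, 6, 2, 4] .nil .nil) (.cons [10, 8, 2, 0, 8, 2, 10] .nil (.cons [2, 10, 2, 0, 8, 2, 10] (.cons [2, 0, 8, 6, 2, 4, 2, 8] .nil .nil) (.cons [2, 10, 4, 0, 8, 2, 10] .nil (.cons [2, 10, 8, 0, 8, 2, 10] .nil (.cons [4, 2, 10, 0, 8, 2, 10] .nil (.cons [10, 2, 10, 0, 8, 2, 10] (.cons [6, 8, 4, 0, 2, 4] .nil .nil) (.cons [2, 8, 10, 0, 8, 2, 10] .nil (.cons [2, 10, 0, 2, 8, 2, 10] (.cons [6, 8, 2, 8, 2, 4, 0, 8, 4] .nil .nil) (.cons [10, 2, 4, 2, 8, 2, 10] (.cons [8, 0, 2, 4, 8, 2, 8] .nil .nil) (.cons [2, 10, 4, 2, 8, 2, 10] (.cons [2, 4, 8, 2, 0, 8, 6, 4] .nil .nil) (.cons [0, 2, 10, 2, 8, 2, 10] .nil (.cons [8, 2, 10, 2, 8, 2, 10] .nil (.cons [10, 2, 10, 2, 8, 2, 10] (.cons [8, 0, 8, 2, 8, 4] .nil .nil) (.cons [2, 8, 10, 2, 8, 2, 10] (.cons [4, 8, 0, 2, 0, 8, 4] .nil .nil) (.cons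 [2, 10, 2, 4, 8, 2, 10] .nil (.cons [2, 10, 8, 4, 8, 2, 10] .nil (.cons [8, 2, 10, 4, 8, 2, 10] (.cons [2, 4, 2, 8, 6, 8] .nil .nil) (.cons [0, 8, 10, 4, 8, 2, 10] .nil (.cons [2, 8, 10, 4, 8, 2, 10] .nil (.cons [8, 10, 8, 6, 8, 2, 10] .nil (.cons [0, 2, 10, 6, 8, 2, 10] .nil (.cons [2, 8, 10, 6, 8, 2, 10] (.cons [4, 8, 6, 8, 6, 2, 4] .nil .nil) (.cons [10, 0, 2, 10, 8, 2, 10] .nil (.cons [4, 8, 2, 10, 8, 2, 10] .nil (.cons [2, 10, 2, 10, 8, 2, 10] .nil (.cons [2, 0, 8, 10, 8, 2, 10] .nil (.cons [4, 0, 8, 10, 8, 2, 10] .nil (.cons [6, 0, 8, 10, 8, 2, 10] .nil (.cons [4, 2, 0, 8, 10, 2, 10] .nil (.cons [8, 2, 0, 8, 10, 2, 10] (.cons [0, 8, 2, 4, 8, 4] .nil .nil) (.cons [4, 0, 2, 8, 10, 2, 10] .nil (.cons [10, 0, 2, 8, 10, 2, 10] .nil (.cons [2, 4, 2, 8, 10, 2, 10] .nil (.cons [8, 6, 2, 8, 10, 2, 10] .nil (.cons [8, 10, 2, 8, 10, 2, 10] .nil (.cons [4,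 2, 4, 8, 10, 2, 10] .nil (.cons [8, 2, 4, 8, 10, 2, 10] .nil (.cons [8, 6, 4, 8, 10, 2, 10] .nil (.cons [2, 8, 6, 8, 10, 2, 10] .nil (.cons [6, 8, 6, 8, 10, 2, 10] .nil (.cons [10, 8, 6, 8, 10, 2, 10] (.cons [4, 0, 2, 4, 8, 2, 8] .nil .nil) (.cons [10, 6, 8, 0, 2, 8, 10] (.cons [2, 8, 4, 2, 4, 8, 4, 8] .nil .nil) (.cons [6, 8, 10, 0, 2, 8, 10] .nil (.cons [2, 10, 8, 4, 2, 8, 10] (.cons [4, 2, 4, 0, 8, 6, 4] .nil .nil) (.cons [4, 2, 10, 4, 2, 8, 10] .nil (.cons [2, 8, 10, 4, 2, 8, 10] .nil (.cons [8, 10, 0, 8, 2, 8, 10] .nil (.cons [10, 6, 4, 8, 2, 8, 10] (.cons [8, 2, 8] .nil .nil) (.cons [2, 10, 4, 8, 2, 8, 10] .nil (.cons [8, 10, 4, 8, 2, 8, 10] .nil (.cons [2, 4, 2, 10, 2, 8, 10] (.cons [8, 0, 8, 2, 4] .nil .nil) (.cons [4, 0, 8, 10, 2, 8, 10] (.cons [8, 4, 2, 8, 6, 0, 8] .nil .nil) (.cons [6, 2, 8, 10, 2, 8, 10] .nil (.cons [8, 2, 8, 10, 2, 8,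 10] .nil (.cons [8, 10, 2, 8, 6, 8, 10] .nil (.cons [2, 10, 0, 8, 4, 0, 2, 10] (.cons [6, 8, 2, 8, 6, 4] .nil .nil) (.cons [2, 8, 2, 10, 4, 0, 2, 10] .nil (.cons [2, 0, 8, 10, 4, 0, 2, 10] .nil (.cons [6, 2, 8, 10, 4, 0, 2, 10] .nil (.cons [0, 8, 2, 10, 8, 0, 2, 10] .nil (.cons [10, 8, 2, 10, 8, 0, 2, 10] .nil (.cons [0, 2, 8, 10, 8, 0, 2, 10] .nil (.cons [10, 2, 8, 10, 8, 0, 2, 10] .nil (.cons [2, 8, 4, 2, 10, 0, 2, 10] .nil (.cons [8, 2, 8, 2, 10, 0, 2, 10] .nil (.cons [10, 2, 8, 2, 10, 0, 2, 10] .nil (.cons [2, 4, 8, 2, 10, 0, 2, 10] .nil (.cons [10, 4, 8, 2, 10, 0, 2, 10] .nil (.cons [10, 6, 8, 2, 10, 0, 2, 10] .nil (.cons [8, 0, 2, 8, 10, 0, 2, 10] .nil (.cons [4, 8, 2, 8, 10, 0, 2, 10] .nil (.cons [0, 2, 4, 8, 10, 0, 2, 10] (.cons [2, 6, 4, 2, 0, 8, 4] .nil .nil) (.cons [10, 2, 4, 8, 10, 0, 2, 10] .nil (.cons [2, 8, 4, 8, 10, 0, 2, 10] .nil (.cons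 [2, 10, 0, 2, 8, 4, 2, 10] .nil (.cons [4, 2, 10, 2, 8, 4, 2, 10] .nil (.cons [8, 2, 10, 2, 8, 4, 2, 10] (.cons [8, 2, 6, 8, 4, 8] .nil .nil) (.cons [8, 2, 10, 4, 8, 4, 2, 10] .nil (.cons [0, 8, 10, 6, 8, 4, 2, 10] .nil (.cons [6, 8, 10, 6, 8, 4, 2, 10] (.cons [8, 6, 8, 4] .nil .nil) (.cons [10, 0, 2, 10, 8, 4, 2, 10] .nil (.cons [2, 10, 2, 10, 8, 4, 2, 10] .nil (.cons [0, 2, 8, 10, 8, 4, 2, 10] .nil (.cons [10, 2, 8, 10, 8, 4, 2, 10] (.cons [2, 0, 4, 8] .nil .nil) (.cons [4, 8, 0, 2, 10, 4, 2, 10] .nil (.cons [4, 0, 8, 2, 10, 4, 2, 10] .nil (.cons [2, 10, 8, 2, 10, 4, 2, 10] .nil (.cons [2, 4, 0, 8, 10, 4, 2, 10] (.cons [4, 8, 4, 2, 4, 0, 8, 4] .nil .nil) (.cons [8, 6, 0, 8, 10, 4, 2, 10] .nil (.cons [6, 4, 2, 8, 10, 4, 2, 10] .nil (.cons [10, 4, 2, 8, 10, 4, 2, 10] .nil (.cons [8, 6, 2, 8, 10, 4, 2, 10] .nil (.cons [4, 2, 4, 8, 10, 4, 2, 10] .nil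 (.cons [4, 2, 10, 2, 0, 8, 2, 10] (.cons [8, 2, 0, 6, 8, 4, 2, 4] .nil .nil) (.cons [10, 2, 10, 8, 2, 8, 2, 10] (.cons [0, 8, 2, 4, 8, 2, 4] .nil .nil) (.cons [0, 2, 10, 6, 4, 8, 2, 10] .nil (.cons [10, 2, 10, 8, 4, 8, 2, 10] .nil (.cons [0, 2, 8, 10, 4, 8, 2, 10] .nil (.cons [6, 8, 2, 10, 6, 8, 2, 10] (.cons [0, 8, 4, 2, 4, 8, 6, 4] .nil .nil) (.cons [10, 8, 2, 10, 6, 8, 2, 10] (.cons [2, 4, 0, 2, 4, 8, 6] .nil .nil) (.cons [2, 10, 4, 2, 10, 8, 2, 10] .nil (.cons [8, 4, 8, 2, 10, 8, 2, 10] .nil (.cons [8, 2, 0, 8, 10, 8, 2, 10] .nil (.cons [2, 4, 0, 8, 10, 8, 2, 10] .nil (.cons [4, 8, 6, 8, 10, 8, 2, 10] .nil (.cons [10, 4, 2, 0, 8, 10, 2, 10] .nil (.cons [8, 10, 0, 2, 8, 10, 2, 10] .nil (.cons [2, 8, 4, 2, 8, 10, 2, 10] .nil (.cons [2, 8, 6, 2, 8, 10, 2, 10] (.cons [8] .nil .nil) (.cons [4, 0, 8, 2, 8, 10, 2, 10] .nil (.cons [6, 0, 2, 4, 8, 10, 2,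 10] .nil (.cons [2, 8, 2, 4, 8, 10, 2, 10] .nil (.cons [2, 8, 6, 4, 8, 10, 2, 10] (.cons [2, 0, 8, 2, 4, 2, 4, 8] .nil .nil) (.cons [8, 2, 8, 4, 8, 10, 2, 10] .nil (.cons [4, 0, 8, 6, 8, 10, 2, 10] (.cons [4, 0, 8, 6, 2, 4] .nil .nil) (.cons [2, 10, 6, 8, 0, 2, 8, 10] (.cons [0, 8, 2, 8] .nil .nil) (.cons [6, 8, 10, 8, 0, 2, 8, 10] .nil (.cons [6, 0, 8, 10, 0, 2, 8, 10] .nil (.cons [8, 2, 8, 10, 0, 2, 8, 10] .nil (.cons [4, 8, 2, 10, 8, 2, 8, 10] .nil (.cons [2, 0, 8, 10, 8, 2, 8, 10] .nil (.cons [8, 2, 4, 2, 10, 2, 8, 10] .nil (.cons [10, 6, 8, 2, 10, 2, 8, 10] (.cons [8, 0, 2, 4, 2, 8, 4] .nil .nil) (.cons [8, 4, 2, 8, 10, 2, 8, 10] .nil (.cons [10, 8, 2, 10, 8, 4, 0, 2, 10] .nil (.cons [10, 6, 8, 2, 10, 8, 0, 2, 10] .nil (.cons [2, 8, 4, 8, 2, 10, 0, 2, 10] (.cons [2, 4, 8, 0, 2, 8, 4] .nil .nil) (.cons [8, 2, 8, 10, 0, 8, 4, 2, 10] .nil (.cons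 [0, 2, 10, 4, 2, 8, 4, 2, 10] .nil (.cons [2, 4, 8, 2, 8, 10, 4, 2, 10] .nil (.cons [0, 2, 10, 0, 8, 6, 8, 2, 10] .nil .nil)))))))))))))))))))))))))))))))))))))))))))))))))))))))))))))))))))))))))))))))))))))))))))))))))))))))))))))))))))))))))))))))))))))))))))))))))))))))))))))))))))))))))))))))))))))))))))))))))))))))))))))))))))))))))))))))))))))))))))))))))))))))))))))))))))))))))))))))))))))))))))))))))))))))))))))))))))))))))))))))))))) (⟨cx_l0.b, cx_l0.S, [], cx_R0, 0⟩ :: cx_tl) (0 :: cx_lk) Pd.nil 0 = true := by decide +kernel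
theorem cx_sound {G : Type*} [Group G] {φ : G →* Equiv.Perm ℕ} {γ : ℕ → G}
    (M : Model φ γ 13 l0_ns n_ts) : ChainSound φ (gp γ [0, 2, 4, 6, 8, 10]) 13 [] cx_ls :=
  ⟨Level.ok_sound' M cx_l0_ok,
   Level.ok_sound' M cx_l1_ok,
   Level.okT_sound M cx_l2_ok, trivial⟩
theorem cx_cent {G : Type*} [Group G] {φ : G →* Equiv.Perm ℕ} {γ : ℕ → G}
    (C : Cert φ γ 13 l0_ns n_ts [0, 2, 4, 6, 8, 10] d_ls) : Cent γ cx_S.u cx_S.Cl 18 :=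
  have X := (C.rechain (cx_sound C.M) (by decide +kernel)).exact
  have A := Srch.auxB_sound (S := cx_S) C.M (K := ⊤) le_top rfl cx_aux
  have F := fun {tr : Tr} {R : ℕ} => Srch.found_of_run (S := cx_S) C.M C.base (by decide +kernel) X A (tr := tr) (R := R)
  Cent.of_found (S := cx_S) C.M X rfl (F cx_r0) cx_cov

end Cfsg.Agent.J3C
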